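import Groth.Agent.Etcore.OpenClosed
import Groth.Agent.Etrest.ExtZeroComp
import Groth.Agent.Vancyc.H687.Sky
import Groth.Agent.Sga5.ClosedPush
import Groth.Agent.Vancyc.H680.PointCoh
import Groth.Agent.Sga4h.H919.Les3
import Groth.Agent.Etrest.ModAb
import Groth.Agent.EtpbcA.P1Charts
import Mathlib.Algebra.Polynomial.Laurent

/-!
# Excision of one point: compactly supported cohomology of `A^1 - {0}` from that of `A^1`

* `concAt_open`: for `j : U ⟶ P` open, `b : Spec Ω ⟶ U` closed in `P` and `o : V ⟶ U` its open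
  complement, `G` on `U` with `H^q(P, j_! G) = 0` for all `q`: `H^q(P, (j o)_! G|_V)` is concentrated in
  degree one, of the same order as the fibre of `G` at `b`.
* `zeroPt`, `gmTo`: the origin of the affine line and its open complement `Spec Ω[T; T⁻¹]`.
-/

set_option autoImplicit false
universe u

open CategoryTheory CategoryTheory.Limits AlgebraicGeometry Opposite CategoryTheory.Abelian

namespace Groth.Agent.Sga4h.H623.GmGen

open Groth.Agent.Sga4h.H919.ConcH Groth.Agent.Etcore.ShriekBasic Groth.Agent.Etcore.OpenClosed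
  Groth.Agent.Etrest.ModAb Groth.Agent.EtpbcA.P1Charts

/-- Isomorphic sheaves have isomorphic cohomology. -/
theorem nonempty_H_iso {X : Scheme.{u}} {F G : EtCoh.Ab X} (e : F ≅ G) (q : ℕ) :
    Nonempty (EtCoh.H X F q ≃ EtCoh.H X G q) :=
  ⟨{ toFun := Sheaf.H.map e.hom q
     invFun := Sheaf.H.map e.inv q
     left_inv := fun x => by rw [← Sheaf.H.map_comp_apply, e.hom_inv_id, Sheaf.H.map_id_apply]
     right_inv := fun x => by rw [← Sheaf.H.map_comp_apply, e.inv_hom_id, Sheaf.H.map_id_apply] }⟩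

/-- If the middle term of a short exact sequence has no cohomology and the quotient is concentrated in
degree zero, the subobject is concentrated in degree one. -/
theorem concAt_shift {X : Scheme.{u}} {S : ShortComplex (EtCoh.Ab X)} (hS : S.ShortExact) {q₀ c : ℕ}
    (h₂ : ∀ q, Subsingleton (EtCoh.H X S.X₂ q)) (h₃ : ConcAt X S.X₃ q₀ c) :
    ConcAt X S.X₁ (q₀ + 1) c := by
  have hinj : ∀ q, Function.Injective (fun x : EtCoh.H X S.X₃ q =>
      (Ext.comp (show Ext _ S.X₃ q from x) hS.extClass (by rfl : q + 1 = q + 1) :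
        EtCoh.H X S.X₁ (q + 1))) := by
    intro q x y hxy
    have h0 : Ext.comp (show Ext _ S.X₃ q from x - y) hS.extClass (rfl : q + 1 = q + 1) = 0 := by
      rw [sub_eq_add_neg]
      refine (Ext.add_comp (show Ext _ S.X₃ q from x) (-(show Ext _ S.X₃ q from y)) hS.extClass
        (rfl : q + 1 = q + 1)).trans ?_
      rw [Ext.neg_comp, ← sub_eq_add_neg]
      exact sub_eq_zero.2 hxy
    obtain ⟨z, hz⟩ := Ext.covariant_sequence_exact₃ _ hS (show Ext _ S.X₃ q from x - y) rfl h0
    have := h₂ q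
    have hz0 : z = 0 := Subsingleton.elim (α := EtCoh.H X S.X₂ q) z 0
    rw [hz0, Ext.zero_comp] at hz
    exact sub_eq_zero.1 hz.symm
  have hsurj : ∀ q, Function.Surjective (fun x : EtCoh.H X S.X₃ q =>
      (Ext.comp (show Ext _ S.X₃ q from x) hS.extClass (by rfl : q + 1 = q + 1) :
        EtCoh.H X S.X₁ (q + 1))) := by
    intro q y
    have := h₂ (q + 1)
    obtain ⟨x, hx⟩ := Ext.covariant_sequence_exact₁ _ hS (show Ext _ S.X₁ (q + 1) from y)
      (Subsingleton.elim (α := EtCoh.H X S.X₂ (q + 1)) _ _) rfl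
    exact ⟨x, hx⟩
  have e : ∀ q, Nonempty (EtCoh.H X S.X₃ q ≃ EtCoh.H X S.X₁ (q + 1)) := fun q =>
    ⟨Equiv.ofBijective _ ⟨hinj q, hsurj q⟩⟩
  refine ⟨fun q hq => ?_, ?_, ?_⟩
  · cases q with
    | zero =>
      have := h₂ 0
      have := hS.mono_f
      exact (Ext.postcomp_mk₀_injective_of_mono _ S.f :
        Function.Injective (fun x : EtCoh.H X S.X₁ 0 =>
          (Ext.comp (show Ext _ S.X₁ 0 from x) (Ext.mk₀ S.f) (add_zero 0) :
            EtCoh.H X S.X₂ 0))).subsingleton
    | succ q =>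
      obtain ⟨i⟩ := e q
      have := h₃.zero q (by omega)
      exact i.symm.subsingleton
  · obtain ⟨i⟩ := e q₀
    have := h₃.fin
    exact Finite.of_equiv _ i
  · obtain ⟨i⟩ := e q₀
    rw [← h₃.card]
    exact (Nat.card_congr i).symm

/-- Cohomology of the skyscraper sheaf at a closed geometric point. -/
theorem concAt_push {P : Scheme.{u}} {Ω : Type u} [Field Ω] [IsSepClosed Ω]
    (b : Spec (CommRingCat.of Ω) ⟶ P) [IsClosedImmersion b]
    (N : EtCoh.Ab (Spec (CommRingCat.of Ω))) (hN : Finite (EtCoh.H _ N 0)) :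
    ConcAt P ((EtCoh.push b).obj N) 0 (Nat.card (EtCoh.H _ N 0)) := by
  refine ⟨fun q hq => ?_, ?_, ?_⟩
  · obtain ⟨e⟩ := Groth.Agent.Sga5.ClosedPush.nonempty_H_push b N q
    have := Groth.Agent.Vancyc.H680.PointCoh.H_subsingleton N q (Nat.pos_of_ne_zero hq)
    exact e.toEquiv.subsingleton
  · obtain ⟨e⟩ := Groth.Agent.Sga5.ClosedPush.nonempty_H_push b N 0
    exact Finite.of_equiv _ e.symm.toEquiv
  · obtain ⟨e⟩ := Groth.Agent.Sga5.ClosedPush.nonempty_H_push b N 0
    exact Nat.card_congr e.toEquiv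

/-- **Excision of one point.** -/
theorem concAt_open {P U V : Scheme.{u}} {Ω : Type u} [Field Ω] [IsSepClosed Ω] (j : U ⟶ P)
    [IsOpenImmersion j] (b : Spec (CommRingCat.of Ω) ⟶ U) [IsClosedImmersion b]
    [IsClosedImmersion (b ≫ j)] (o : V ⟶ U) [IsOpenImmersion o]
    (hd : IsCompl (Set.range b) (Set.range o)) (G : EtCoh.Ab U)
    (hv : ∀ q, Subsingleton (EtCoh.H P ((EtShriek.extZero j).obj G) q))
    (hN : Finite (EtCoh.H _ ((EtCoh.pull b).obj G) 0)) (F : EtCoh.Ab V)
    (e : (EtCoh.pull o).obj G ≅ F) :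
    ConcAt P ((EtShriek.extZero (o ≫ j)).obj F) 1
      (Nat.card (EtCoh.H _ ((EtCoh.pull b).obj G) 0)) := by
  have hS := (shortExact b o hd G).map_of_exact (EtShriek.extZero j)
  have h3 := (concAt_push (b ≫ j) ((EtCoh.pull b).obj G) hN).of_iso
    (Groth.Agent.Vancyc.H687.Sky.extPushIso b j ((EtCoh.pull b).obj G)).symm
  have h := concAt_shift hS hv h3
  refine h.of_iso ?_
  exact (EtShriek.extZero j).mapIso ((EtShriek.extZero o).mapIso ((pullIsoRestr o).symm.app G)) ≪≫
    (Groth.Agent.Etrest.ExtZeroComp.extZeroComp o j).app _ ≪≫ (EtShriek.extZero (o ≫ j)).mapIso e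

section point

variable (Λ : Type (u + 1)) [CommRing Λ] (Ω : Type u) [Field Ω] [IsSepClosed Ω]

/-- Degree zero cohomology of the constant sheaf `Λ` on a geometric point. -/
theorem card_H_constMod : Nat.card (EtCoh.H (Spec (CommRingCat.of Ω))
    ((ab Λ _).obj (EtModW.constMod Λ (Spec (CommRingCat.of Ω)) Λ)) 0) = Nat.card Λ := by
  rw [Groth.Agent.Vancyc.H680.PointCoh.card_H_zero]
  let ξ := Groth.Agent.EtpbcB.SepClosedPoint.pt Ω
  have e1 : (EtCoh.stalk ξ).obj ((ab Λ _).obj (EtModW.constMod Λ (Spec (CommRingCat.of Ω)) Λ)) ≅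
      AddCommGrpCat.of Λ :=
    (EtCoh.stalk ξ).mapIso ((constIso Λ (Spec (CommRingCat.of Ω))).app (ModuleCat.of Λ Λ)) ≪≫
      Groth.Agent.Etbase.OverStalk.sheafFiberConstantSheafIso
        (Scheme.pointSmallEtale ξ) (AddCommGrpCat.of Λ)
  exact Nat.card_congr e1.addCommGroupIsoToAddEquiv.toEquiv

end point

section gm

variable (Ω : Type u) [Field Ω]

/-- The origin of the affine line. -/
noncomputable abbrev zeroPt : Spec (CommRingCat.of Ω) ⟶ AA (CommRingCat.of Ω) :=
  Spec.map (CommRingCat.ofHom (Polynomial.evalRingHom (0 : Ω)))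

/-- The open immersion `G_m ⟶ A^1`. -/
noncomputable abbrev gmTo : Spec (CommRingCat.of (LaurentPolynomial Ω)) ⟶ AA (CommRingCat.of Ω) :=
  Spec.map (CommRingCat.ofHom (Polynomial.toLaurent : Polynomial Ω →+* LaurentPolynomial Ω))

instance isClosedImmersion_zeroPt : IsClosedImmersion (zeroPt Ω) :=
  IsClosedImmersion.spec_of_surjective _ fun x => ⟨Polynomial.C x, by simp⟩

@[reassoc]
theorem zeroPt_pr : zeroPt Ω ≫ pr (CommRingCat.of Ω) = 𝟙 _ := by
  rw [← Spec.map_comp, ← CommRingCat.ofHom_comp]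
  have : (Polynomial.evalRingHom (0 : Ω)).comp (Polynomial.C : Ω →+* Polynomial Ω) = RingHom.id Ω := by
    ext x
    simp
  change Spec.map (CommRingCat.ofHom ((Polynomial.evalRingHom (0 : Ω)).comp
    (Polynomial.C : Ω →+* Polynomial Ω))) = _
  rw [this]
  exact Spec.map_id _

instance isClosedImmersion_zeroPt_chart (i : Fin (1 + 1)) :
    IsClosedImmersion (zeroPt Ω ≫ chart i (CommRingCat.of Ω)) := by
  have h1 : IsProper (toB (CommRingCat.of Ω)) :=
    Groth.Agent.Dix.ProjProper.isProper_toBase 1 (Spec (CommRingCat.of Ω))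
  have h2 : IsClosedImmersion ((zeroPt Ω ≫ chart i (CommRingCat.of Ω)) ≫ toB (CommRingCat.of Ω)) := by
    rw [Category.assoc, chart_toB, zeroPt_pr]
    infer_instance
  exact IsClosedImmersion.of_comp _ (toB (CommRingCat.of Ω))

instance isOpenImmersion_gmTo : IsOpenImmersion (gmTo Ω) := by
  have h : IsLocalization.Away (Polynomial.X : Polynomial Ω) (LaurentPolynomial Ω) := inferInstance
  exact AlgebraicGeometry.IsOpenImmersion.of_isLocalization
    (S := LaurentPolynomial Ω) (Polynomial.X : Polynomial Ω)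

theorem range_gmTo : Set.range (gmTo Ω) =
    (PrimeSpectrum.basicOpen (Polynomial.X : Polynomial Ω) : Set (PrimeSpectrum (Polynomial Ω))) :=
  PrimeSpectrum.localization_away_comap_range (LaurentPolynomial Ω) (Polynomial.X : Polynomial Ω)

theorem range_zeroPt : Set.range (zeroPt Ω) =
    PrimeSpectrum.zeroLocus {(Polynomial.X : Polynomial Ω)} := by
  have h := range_comap_of_surjective Ω (Polynomial.evalRingHom (0 : Ω))
    (fun x => ⟨Polynomial.C x, by simp⟩)
  refine Eq.trans h ?_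
  have h2 : RingHom.ker (Polynomial.evalRingHom (0 : Ω)) = Ideal.span {Polynomial.X} := by
    rw [Polynomial.ker_evalRingHom]
    simp
  rw [h2, PrimeSpectrum.zeroLocus_span]

theorem isCompl_gm : IsCompl (Set.range (zeroPt Ω)) (Set.range (gmTo Ω)) := by
  rw [range_zeroPt, range_gmTo, PrimeSpectrum.basicOpen_eq_zeroLocus_compl]
  exact isCompl_compl

end gm

end Groth.Agent.Sga4h.H623.GmGen
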