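import Groth.Agent.Sga4h.H623.GmGen
import Groth.Agent.Sga4h.H919.Fam

/-!
# Compactly supported cohomology of `G_m` with coefficients in `sh (a T)`

If `H^q(P^1, j_! sh (a x)) = 0` for all `q` then `H^q(P^1, j'_! sh (a T))` is concentrated in degree
one, of order `|Λ|`, for `j' : G_m ⟶ A^1 ⟶ P^1`.
-/

set_option autoImplicit false
universe u

open CategoryTheory CategoryTheory.Limits AlgebraicGeometry Opposite

namespace Groth.Agent.Sga4h.H623.Gm

open Groth.Agent.Sga4h.H919.ConcH Groth.Agent.Sga4h.H919.Fam Groth.Agent.Sga4h.H623.GmGen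
  Groth.Agent.Etrest.ModAb Groth.Agent.EtpbcA.P1Charts

variable {k : Type u} [Field k] [Fintype k] {Λ : Type (u + 1)} [CommRing Λ] (S : ASys k Λ)
  {Ω : Type u} [Field Ω] (ρ : k →+* Ω) (a : Ω)

/-- The restriction of `sh (a x)` to `G_m`. -/
theorem nonempty_pull_gmTo :
    Nonempty ((EtModW.pull Λ (gmTo Ω)).obj
      (S.sh ((Polynomial.C : Ω →+* Polynomial Ω).comp ρ) (Polynomial.C a * Polynomial.X)) ≅
      S.sh ((LaurentPolynomial.C : Ω →+* LaurentPolynomial Ω).comp ρ)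
        (LaurentPolynomial.C a * LaurentPolynomial.T 1)) := by
  obtain ⟨e⟩ := S.pull ((Polynomial.C : Ω →+* Polynomial Ω).comp ρ)
    (Polynomial.C a * Polynomial.X) (Polynomial.toLaurent : Polynomial Ω →+* LaurentPolynomial Ω)
  have h1 : (Polynomial.toLaurent : Polynomial Ω →+* LaurentPolynomial Ω).comp
      ((Polynomial.C : Ω →+* Polynomial Ω).comp ρ) =
      (LaurentPolynomial.C : Ω →+* LaurentPolynomial Ω).comp ρ := by
    ext x
    simp
  have h2 : (Polynomial.toLaurent : Polynomial Ω →+* LaurentPolynomial Ω)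
      (Polynomial.C a * Polynomial.X) = LaurentPolynomial.C a * LaurentPolynomial.T 1 := by
    rw [map_mul, Polynomial.toLaurent_C, Polynomial.toLaurent_X]
  rw [h1, h2] at e
  exact ⟨e⟩

/-- The fibre of `sh (a x)` at the origin is constant. -/
theorem nonempty_pull_zeroPt :
    Nonempty ((EtModW.pull Λ (zeroPt Ω)).obj
      (S.sh ((Polynomial.C : Ω →+* Polynomial Ω).comp ρ) (Polynomial.C a * Polynomial.X)) ≅
      EtModW.constMod Λ _ Λ) := by
  obtain ⟨e⟩ := S.pull ((Polynomial.C : Ω →+* Polynomial Ω).comp ρ)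
    (Polynomial.C a * Polynomial.X) (Polynomial.evalRingHom (0 : Ω))
  have h2 : Polynomial.evalRingHom (0 : Ω) (Polynomial.C a * Polynomial.X) = 0 := by simp
  rw [h2] at e
  obtain ⟨e'⟩ := S.zero ((Polynomial.evalRingHom (0 : Ω)).comp
    ((Polynomial.C : Ω →+* Polynomial Ω).comp ρ))
  exact ⟨e ≪≫ e'⟩

variable [IsSepClosed Ω] [Finite Λ] (i : Fin (1 + 1))

/-- **Compactly supported cohomology of `G_m` with coefficients in any sheaf `N` which is the
restriction of `sh (a x)`.** -/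
theorem concAt_gm' (hvan : ∀ q, Subsingleton (EtCoh.H (PP (CommRingCat.of Ω))
      ((EtShriek.extZero (chart i (CommRingCat.of Ω))).obj ((ab Λ _).obj
        (S.sh ((Polynomial.C : Ω →+* Polynomial Ω).comp ρ) (Polynomial.C a * Polynomial.X)))) q))
    {V : Scheme.{u}} (o : V ⟶ AA (CommRingCat.of Ω)) [IsOpenImmersion o]
    (ho : Set.range o = Set.range (gmTo Ω)) (N : EtModW.Mod Λ V)
    (e : Nonempty ((EtModW.pull Λ o).obj (S.sh ((Polynomial.C : Ω →+* Polynomial Ω).comp ρ)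
      (Polynomial.C a * Polynomial.X)) ≅ N)) :
    ConcAt (PP (CommRingCat.of Ω)) ((EtShriek.extZero (o ≫ chart i (CommRingCat.of Ω))).obj
      ((ab Λ _).obj N)) 1 (Nat.card Λ) := by
  obtain ⟨e⟩ := e
  obtain ⟨e0⟩ := nonempty_pull_zeroPt S ρ a
  have i0 : (EtCoh.pull (zeroPt Ω)).obj ((ab Λ _).obj
      (S.sh ((Polynomial.C : Ω →+* Polynomial Ω).comp ρ) (Polynomial.C a * Polynomial.X))) ≅
      (ab Λ _).obj (EtModW.constMod Λ (Spec (CommRingCat.of Ω)) Λ) :=
    ((pullIso Λ (zeroPt Ω)).app _).symm ≪≫ (ab Λ _).mapIso e0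
  obtain ⟨E0⟩ := nonempty_H_iso i0 0
  have hcard : Nat.card (EtCoh.H _ ((EtCoh.pull (zeroPt Ω)).obj ((ab Λ _).obj
      (S.sh ((Polynomial.C : Ω →+* Polynomial Ω).comp ρ)
        (Polynomial.C a * Polynomial.X)))) 0) = Nat.card Λ :=
    (Nat.card_congr E0).trans (card_H_constMod Λ Ω)
  have hpos : Nat.card Λ ≠ 0 := Nat.card_pos.ne'
  have hfin : Finite (EtCoh.H _ ((EtCoh.pull (zeroPt Ω)).obj ((ab Λ _).obj
      (S.sh ((Polynomial.C : Ω →+* Polynomial Ω).comp ρ)
        (Polynomial.C a * Polynomial.X)))) 0) :=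
    Nat.finite_of_card_ne_zero (by rw [hcard]; exact hpos)
  have h := concAt_open (chart i (CommRingCat.of Ω)) (zeroPt Ω) o
    (by rw [ho]; exact isCompl_gm Ω) _ hvan hfin ((ab Λ _).obj N)
    (((pullIso Λ o).app _).symm ≪≫ (ab Λ _).mapIso e)
  rwa [hcard] at h

/-- **Compactly supported cohomology of `G_m` with coefficients in `sh (a T)`.** -/
theorem concAt_gm (hvan : ∀ q, Subsingleton (EtCoh.H (PP (CommRingCat.of Ω))
      ((EtShriek.extZero (chart i (CommRingCat.of Ω))).obj ((ab Λ _).obj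
        (S.sh ((Polynomial.C : Ω →+* Polynomial Ω).comp ρ) (Polynomial.C a * Polynomial.X)))) q)) :
    ConcAt (PP (CommRingCat.of Ω)) ((EtShriek.extZero (gmTo Ω ≫ chart i (CommRingCat.of Ω))).obj
      ((ab Λ _).obj (S.sh ((LaurentPolynomial.C : Ω →+* LaurentPolynomial Ω).comp ρ)
        (LaurentPolynomial.C a * LaurentPolynomial.T 1)))) 1 (Nat.card Λ) :=
  concAt_gm' S ρ a i hvan (gmTo Ω) rfl _ (nonempty_pull_gmTo S ρ a)

/-- The case `a = 1`. -/
theorem concAt_gm_one (hvan : ∀ q, Subsingleton (EtCoh.H (PP (CommRingCat.of Ω))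
      ((EtShriek.extZero (chart i (CommRingCat.of Ω))).obj ((ab Λ _).obj
        (S.sh ((Polynomial.C : Ω →+* Polynomial Ω).comp ρ) (Polynomial.C 1 * Polynomial.X)))) q)) :
    ConcAt (PP (CommRingCat.of Ω)) ((EtShriek.extZero (gmTo Ω ≫ chart i (CommRingCat.of Ω))).obj
      ((ab Λ _).obj (S.sh ((LaurentPolynomial.C : Ω →+* LaurentPolynomial Ω).comp ρ)
        (LaurentPolynomial.T 1)))) 1 (Nat.card Λ) := by
  have h := concAt_gm S ρ 1 i hvan
  rwa [map_one, one_mul] at h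

end Groth.Agent.Sga4h.H623.Gm
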